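import Mathlib

set_option autoImplicit false

namespace Cfsg.Agent.Lib.Helper14

open Matrix

/-- Orbit-stabiliser for conjugacy classes. -/
theorem card_carrier_mul_card_centralizer {G : Type*} [Group G] [Finite G] (g : G) :
    Nat.card (ConjClasses.mk g).carrier * Nat.card (Subgroup.centralizer ({g} : Set G)) =
      Nat.card G := by
  have h1 : (MulAction.stabilizer (ConjAct G) g).index = Nat.card (ConjClasses.mk g).carrier := by
    rw [MulAction.index_stabilizer, ConjAct.orbit_eq_carrier_conjClasses]
    rfl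
  have h2 : Nat.card (MulAction.stabilizer (ConjAct G) g) =
      Nat.card (Subgroup.centralizer ({g} : Set G)) := by
    apply Nat.card_congr
    refine Equiv.subtypeEquiv ConjAct.ofConjAct.toEquiv (fun k => ?_)
    rw [MulAction.mem_stabilizer_iff, ConjAct.smul_def, Subgroup.mem_centralizer_iff]
    simp only [Set.mem_singleton_iff, forall_eq, MulEquiv.toEquiv_eq_coe, EquivLike.coe_coe]
    rw [mul_inv_eq_iff_eq_mul, eq_comm]
  have h3 : Nat.card (ConjAct G) = Nat.card G := Nat.card_congr ConjAct.ofConjAct.toEquiv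
  rw [← h1, ← h2, ← h3, mul_comm]
  exact Subgroup.card_mul_index _

/-- `|GL_n(F)| = |SL_n(F)| (q - 1)` for `n ≥ 1`. -/
theorem card_SL_mul {F : Type*} [Field F] [Fintype F] (n : ℕ) (hn : 1 ≤ n) :
    Nat.card (Matrix.SpecialLinearGroup (Fin n) F) * (Fintype.card F - 1) =
      Nat.card (GL (Fin n) F) := by
  classical
  let d : GL (Fin n) F →* Fˣ := Matrix.GeneralLinearGroup.det
  have hsurj : Function.Surjective d := by
    intro a
    let i0 : Fin n := ⟨0, hn⟩
    let D : Matrix (Fin n) (Fin n) F := Matrix.diagonal (fun i => if i = i0 then (a : F) else 1)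
    have hD : D.det = a := by
      rw [Matrix.det_diagonal, Finset.prod_ite_eq' Finset.univ i0 (fun _ => (a : F))] 
      simp
    refine ⟨Matrix.GeneralLinearGroup.mkOfDetNeZero D (by rw [hD]; exact a.ne_zero), ?_⟩
    apply Units.ext
    exact hD
  have hker : Nat.card d.ker = Nat.card (Matrix.SpecialLinearGroup (Fin n) F) := by
    symm
    apply Nat.card_congr
    refine Equiv.ofBijective (fun g => ⟨Matrix.SpecialLinearGroup.toGL g, ?_⟩) ⟨?_, ?_⟩
    · rw [MonoidHom.mem_ker]
      apply Units.ext
      exact g.2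
    · intro g g' h
      exact Matrix.SpecialLinearGroup.toGL_injective (congrArg Subtype.val h)
    · rintro ⟨g, hg⟩
      rw [MonoidHom.mem_ker] at hg
      have hdet : (g : Matrix (Fin n) (Fin n) F).det = 1 := congrArg Units.val hg
      refine ⟨⟨g, hdet⟩, ?_⟩
      apply Subtype.ext
      apply Units.ext
      rfl
  have hidx : d.ker.index = Fintype.card F - 1 := by
    rw [Subgroup.index_ker, MonoidHom.range_eq_top.mpr hsurj, Subgroup.card_top,
      Nat.card_eq_fintype_card, Fintype.card_units]
  rw [← hker, ← hidx]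
  exact Subgroup.card_mul_index _

theorem card_GL2 {F : Type*} [Field F] [Fintype F] :
    Nat.card (GL (Fin 2) F) = (Fintype.card F ^ 2 - 1) * (Fintype.card F ^ 2 - Fintype.card F) := by
  rw [Matrix.card_GL_field, Fin.prod_univ_two]
  simp

theorem card_SL2 {F : Type*} [Field F] [Fintype F] :
    Nat.card (Matrix.SpecialLinearGroup (Fin 2) F) = Fintype.card F * (Fintype.card F ^ 2 - 1) := by
  have h1 := card_SL_mul (F := F) 2 (by norm_num)
  rw [card_GL2] at h1
  have hq : 2 ≤ Fintype.card F := Fintype.one_lt_card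
  have h2 : Fintype.card F ^ 2 - Fintype.card F = Fintype.card F * (Fintype.card F - 1) := by
    rw [Nat.mul_sub, mul_one, pow_two]
  rw [h2] at h1
  have h3 : 0 < Fintype.card F - 1 := by omega
  apply Nat.eq_of_mul_eq_mul_right h3
  rw [h1]; ring

end Cfsg.Agent.Lib.Helper14
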