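import Mathlib

set_option autoImplicit false

namespace Cfsg.Agent.Lib.Helper14.GL2

open Matrix

variable {F : Type*} [Field F]

/-- The matrix with columns `v = (x, y)` and `M v`. -/
def cyc (M : Matrix (Fin 2) (Fin 2) F) (x y : F) : Matrix (Fin 2) (Fin 2) F :=
  !![x, M 0 0 * x + M 0 1 * y; y, M 1 0 * x + M 1 1 * y]

/-- The companion matrix with trace `t` and determinant `d`. -/
def comp (t d : F) : Matrix (Fin 2) (Fin 2) F := !![0, -d; 1, t]

/-- `det [v | M v]`. -/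
def Qf (M : Matrix (Fin 2) (Fin 2) F) (x y : F) : F :=
  M 1 0 * x ^ 2 + (M 1 1 - M 0 0) * x * y - M 0 1 * y ^ 2

theorem det_cyc (M : Matrix (Fin 2) (Fin 2) F) (x y : F) : (cyc M x y).det = Qf M x y := by
  simp only [cyc, Qf, det_fin_two_of]; ring

theorem det_comp (t d : F) : (comp t d).det = d := by
  simp [comp, det_fin_two_of]

theorem trace_comp (t d : F) : (comp t d).trace = t := by
  simp [comp, trace_fin_two_of]

theorem mul_cyc (M : Matrix (Fin 2) (Fin 2) F) (x y : F) :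
    M * cyc M x y = cyc M x y * comp M.trace M.det := by
  ext i j
  fin_cases i <;> fin_cases j <;>
    simp [cyc, comp, Matrix.mul_apply, Fin.sum_univ_two, det_fin_two, trace_fin_two] <;> ring

/-- `M` is a scalar matrix. -/
def IsScal (M : Matrix (Fin 2) (Fin 2) F) : Prop := M 0 1 = 0 ∧ M 1 0 = 0 ∧ M 0 0 = M 1 1

theorem exists_Qf_ne_zero {M : Matrix (Fin 2) (Fin 2) F} (h : ¬ IsScal M) :
    ∃ x y : F, Qf M x y ≠ 0 := by
  by_cases h1 : M 1 0 = 0
  · by_cases h2 : M 0 1 = 0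
    · refine ⟨1, 1, ?_⟩
      have h3 : M 0 0 ≠ M 1 1 := fun h3 => h ⟨h2, h1, h3⟩
      simp only [Qf, h1, h2]
      intro h4
      apply h3
      have : M 1 1 - M 0 0 = 0 := by simpa using h4
      exact (sub_eq_zero.mp this).symm
    · exact ⟨0, 1, by simpa [Qf] using h2⟩
  · exact ⟨1, 0, by simpa [Qf] using h1⟩

theorem isScal_iff (M : Matrix (Fin 2) (Fin 2) F) : IsScal M ↔ ∃ a : F, M = a • (1 : Matrix (Fin 2) (Fin 2) F) := by
  constructor
  · rintro ⟨h1, h2, h3⟩
    refine ⟨M 0 0, ?_⟩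
    ext i j
    fin_cases i <;> fin_cases j <;> simp [h1, h2, h3]
  · rintro ⟨a, rfl⟩
    simp [IsScal]

theorem not_isScal_comp (t d : F) : ¬ IsScal (comp t d) := by
  intro h
  have := h.2.1
  simp [comp] at this

/-- Key matrix-level conjugation lemma: if `[v | M v]` and `[v' | M' v']` are invertible and `M`, `M'`
have the same trace and determinant, then `c = [v' | M' v'] [v | M v]⁻¹` satisfies `c M = M' c`. -/
theorem conj_of_cyc (M M' : Matrix (Fin 2) (Fin 2) F) (ht : M.trace = M'.trace)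
    (hd : M.det = M'.det) (x y x' y' : F) (h : Qf M x y ≠ 0) :
    (cyc M' x' y' * (cyc M x y)⁻¹) * M = M' * (cyc M' x' y' * (cyc M x y)⁻¹) := by
  have hu : IsUnit (cyc M x y).det := by rw [det_cyc]; exact isUnit_iff_ne_zero.mpr h
  have h1 : (cyc M x y)⁻¹ * M = comp M.trace M.det * (cyc M x y)⁻¹ := by
    have h2 : (cyc M x y)⁻¹ * M * cyc M x y = comp M.trace M.det := by
      rw [Matrix.mul_assoc, mul_cyc, ← Matrix.mul_assoc, Matrix.nonsing_inv_mul _ hu, Matrix.one_mul]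
    calc (cyc M x y)⁻¹ * M = (cyc M x y)⁻¹ * M * (cyc M x y * (cyc M x y)⁻¹) := by
          rw [Matrix.mul_nonsing_inv _ hu, Matrix.mul_one]
      _ = ((cyc M x y)⁻¹ * M * cyc M x y) * (cyc M x y)⁻¹ := by simp only [Matrix.mul_assoc]
      _ = comp M.trace M.det * (cyc M x y)⁻¹ := by rw [h2]
  rw [Matrix.mul_assoc, h1, ← Matrix.mul_assoc, ← Matrix.mul_assoc, mul_cyc M', ht, hd]

theorem det_conj_of_cyc (M M' : Matrix (Fin 2) (Fin 2) F) (x y x' y' : F) (h : Qf M x y ≠ 0) :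
    (cyc M' x' y' * (cyc M x y)⁻¹).det = Qf M' x' y' / Qf M x y := by
  rw [det_mul, det_cyc, det_nonsing_inv, det_cyc, Ring.inverse_eq_inv', div_eq_mul_inv]

/-- Two non-scalar elements of `GL₂(F)` with equal trace and determinant are conjugate. -/
theorem isConj_GL_of_trace_det (g h : GL (Fin 2) F)
    (hg : ¬ IsScal (g : Matrix (Fin 2) (Fin 2) F)) (hh : ¬ IsScal (h : Matrix (Fin 2) (Fin 2) F))
    (ht : (g : Matrix (Fin 2) (Fin 2) F).trace = (h : Matrix (Fin 2) (Fin 2) F).trace)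
    (hd : (g : Matrix (Fin 2) (Fin 2) F).det = (h : Matrix (Fin 2) (Fin 2) F).det) : IsConj g h := by
  obtain ⟨x, y, hxy⟩ := exists_Qf_ne_zero hg
  obtain ⟨x', y', hxy'⟩ := exists_Qf_ne_zero hh
  have hdet : (cyc (h : Matrix (Fin 2) (Fin 2) F) x' y' * (cyc (g : Matrix (Fin 2) (Fin 2) F) x y)⁻¹).det ≠ 0 := by
    rw [det_conj_of_cyc _ _ _ _ _ _ hxy]
    exact div_ne_zero hxy' hxy
  let c : GL (Fin 2) F := Matrix.GeneralLinearGroup.mkOfDetNeZero _ hdet
  rw [isConj_iff]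
  refine ⟨c, ?_⟩
  rw [mul_inv_eq_iff_eq_mul]
  apply Units.ext
  exact conj_of_cyc _ _ ht hd x y x' y' hxy

/-- Two elements of `SL₂(F)` with equal trace such that the forms `Qf` share a nonzero value are
conjugate in `SL₂(F)`. -/
theorem isConj_SL_of_trace_Qf (g h : SpecialLinearGroup (Fin 2) F)
    (ht : (g : Matrix (Fin 2) (Fin 2) F).trace = (h : Matrix (Fin 2) (Fin 2) F).trace)
    (x y x' y' : F) (hxy : Qf (g : Matrix (Fin 2) (Fin 2) F) x y ≠ 0)
    (heq : Qf (h : Matrix (Fin 2) (Fin 2) F) x' y' = Qf (g : Matrix (Fin 2) (Fin 2) F) x y) :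
    IsConj g h := by
  have hdet : (cyc (h : Matrix (Fin 2) (Fin 2) F) x' y' * (cyc (g : Matrix (Fin 2) (Fin 2) F) x y)⁻¹).det = 1 := by
    rw [det_conj_of_cyc _ _ _ _ _ _ hxy, heq]
    exact div_self hxy
  let c : SpecialLinearGroup (Fin 2) F := ⟨_, hdet⟩
  rw [isConj_iff]
  refine ⟨c, ?_⟩
  rw [mul_inv_eq_iff_eq_mul]
  apply Subtype.ext
  exact conj_of_cyc _ _ ht (by rw [g.2, h.2]) x y x' y' hxy

/-- `Qf` transforms by the determinant under conjugation. -/
theorem Qf_conj (c M M' : Matrix (Fin 2) (Fin 2) F) (h : c * M = M' * c) (x y : F) :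
    Qf M' (c 0 0 * x + c 0 1 * y) (c 1 0 * x + c 1 1 * y) = c.det * Qf M x y := by
  have h1 : cyc M' (c 0 0 * x + c 0 1 * y) (c 1 0 * x + c 1 1 * y) = c * cyc M x y := by
    have e00 := congrFun (congrFun h 0) 0
    have e01 := congrFun (congrFun h 0) 1
    have e10 := congrFun (congrFun h 1) 0
    have e11 := congrFun (congrFun h 1) 1
    simp only [Matrix.mul_apply, Fin.sum_univ_two] at e00 e01 e10 e11
    ext i j
    fin_cases i <;> fin_cases j <;> simp [cyc, Matrix.mul_apply, Fin.sum_univ_two]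
    · linear_combination (-x) * e00 + (-y) * e01
    · linear_combination (-x) * e10 + (-y) * e11
  rw [← det_cyc, h1, det_mul, det_cyc]

end Cfsg.Agent.Lib.Helper14.GL2
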