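import Mathlib
import Cfsg.Agent.Lib.Helper14.GL2

set_option autoImplicit false

namespace Cfsg.Agent.Lib.Helper14.SL2

open Matrix Cfsg.Agent.Lib.Helper14.GL2

variable {F : Type*} [Field F]

/-- matrix-level intertwiner from conjugacy in `SL₂`. -/
theorem exists_intertwiner {g h : SpecialLinearGroup (Fin 2) F} (hc : IsConj g h) :
    ∃ c : SpecialLinearGroup (Fin 2) F,
      (c : Matrix (Fin 2) (Fin 2) F) * (g : Matrix (Fin 2) (Fin 2) F) =
        (h : Matrix (Fin 2) (Fin 2) F) * (c : Matrix (Fin 2) (Fin 2) F) := by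
  obtain ⟨c, hc⟩ := isConj_iff.mp hc
  refine ⟨c, ?_⟩
  rw [mul_inv_eq_iff_eq_mul] at hc
  exact congrArg Subtype.val hc

theorem trace_conj {g h : SpecialLinearGroup (Fin 2) F} (hc : IsConj g h) :
    (g : Matrix (Fin 2) (Fin 2) F).trace = (h : Matrix (Fin 2) (Fin 2) F).trace := by
  obtain ⟨c, hc⟩ := isConj_iff.mp hc
  rw [← hc, Matrix.SpecialLinearGroup.coe_mul, Matrix.SpecialLinearGroup.coe_mul, Matrix.trace_mul_comm,
    ← Matrix.mul_assoc, ← Matrix.SpecialLinearGroup.coe_mul, inv_mul_cancel, Matrix.SpecialLinearGroup.coe_one,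
    Matrix.one_mul]

/-- A conjugate of a scalar element of `SL₂` is itself. -/
theorem eq_of_isConj_of_isScal {g h : SpecialLinearGroup (Fin 2) F}
    (hs : IsScal (g : Matrix (Fin 2) (Fin 2) F)) (hc : IsConj g h) : h = g := by
  obtain ⟨a, ha⟩ := (isScal_iff _).mp hs
  obtain ⟨c, hc⟩ := isConj_iff.mp hc
  have h1 : c * g = g * c := by
    apply Subtype.ext
    change (c : Matrix (Fin 2) (Fin 2) F) * (g : Matrix (Fin 2) (Fin 2) F) =
      (g : Matrix (Fin 2) (Fin 2) F) * (c : Matrix (Fin 2) (Fin 2) F)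
    rw [ha]; simp
  rw [h1, mul_inv_cancel_right] at hc
  exact hc.symm

/-- The companion matrix of trace `t` in `SL₂`. -/
def compSL (t : F) : SpecialLinearGroup (Fin 2) F := ⟨GL2.comp t 1, det_comp t 1⟩

theorem Qf_compSL (t x y : F) :
    Qf ((compSL t : SpecialLinearGroup (Fin 2) F) : Matrix (Fin 2) (Fin 2) F) x y =
      x ^ 2 + t * x * y + y ^ 2 := by
  simp [compSL, GL2.comp, Qf]

theorem trace_compSL (t : F) :
    ((compSL t : SpecialLinearGroup (Fin 2) F) : Matrix (Fin 2) (Fin 2) F).trace = t :=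
  trace_comp t 1

theorem not_isScal_compSL (t : F) :
    ¬ IsScal ((compSL t : SpecialLinearGroup (Fin 2) F) : Matrix (Fin 2) (Fin 2) F) :=
  not_isScal_comp t 1

/-- Invariance of the value set of `Qf` under `SL₂`-conjugation. -/
theorem Qf_of_isConj {g h : SpecialLinearGroup (Fin 2) F} (hc : IsConj g h) (x y : F) :
    ∃ x' y' : F, Qf (h : Matrix (Fin 2) (Fin 2) F) x' y' = Qf (g : Matrix (Fin 2) (Fin 2) F) x y := by
  obtain ⟨c, hc⟩ := exists_intertwiner hc
  refine ⟨_, _, (Qf_conj _ _ _ hc x y).trans ?_⟩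
  rw [c.2, one_mul]

end Cfsg.Agent.Lib.Helper14.SL2
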