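import Mathlib
import Cfsg.Agent.Lib.Helper14.SL2

set_option autoImplicit false

namespace Cfsg.Agent.Lib.Helper14.SL2

open Matrix Cfsg.Agent.Lib.Helper14.GL2 Polynomial

variable {F : Type*} [Field F]

/-- The element `s * [[1, b], [0, 1]]` of `SL₂`, for `s ^ 2 = 1`. -/
def upp (s b : F) (hs : s ^ 2 = 1) : Matrix.SpecialLinearGroup (Fin 2) F :=
  ⟨!![s, s * b; 0, s], by rw [det_fin_two_of]; linear_combination hs⟩

theorem Qf_upp (s b : F) (hs : s ^ 2 = 1) (x y : F) :
    Qf ((upp s b hs : Matrix.SpecialLinearGroup (Fin 2) F) : Matrix (Fin 2) (Fin 2) F) x y =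
      -(s * b) * y ^ 2 := by
  simp [upp, Qf]

theorem trace_upp (s b : F) (hs : s ^ 2 = 1) :
    ((upp s b hs : Matrix.SpecialLinearGroup (Fin 2) F) : Matrix (Fin 2) (Fin 2) F).trace = 2 * s := by
  simp [upp, trace_fin_two_of]; ring

theorem not_isScal_upp (s b : F) (hs : s ^ 2 = 1) (hb : b ≠ 0) :
    ¬ IsScal ((upp s b hs : Matrix.SpecialLinearGroup (Fin 2) F) : Matrix (Fin 2) (Fin 2) F) := by
  intro h
  have h1 := h.1
  simp [upp] at h1
  rcases h1 with h1 | h1
  · rw [h1] at hs; simp at hs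
  · exact hb h1

theorem two_ne_zero_of_odd [Fintype F] (hodd : Fintype.card F % 2 = 1) : (2 : F) ≠ 0 := by
  apply Ring.two_ne_zero
  intro h
  have := FiniteField.even_card_iff_char_two.mp h
  omega

theorem ringChar_ne_two_of_odd [Fintype F] (hodd : Fintype.card F % 2 = 1) : ringChar F ≠ 2 := by
  intro h
  have := FiniteField.even_card_iff_char_two.mp h
  omega

/-- A nondegenerate binary quadratic form over a finite field of odd order represents `1`. -/
theorem exists_Qf_eq_one [Fintype F] (hodd : Fintype.card F % 2 = 1)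
    (M : Matrix (Fin 2) (Fin 2) F) (hD : (M 1 1 - M 0 0) ^ 2 + 4 * M 0 1 * M 1 0 ≠ 0) :
    ∃ x y : F, Qf M x y = 1 := by
  have h2 : (2 : F) ≠ 0 := two_ne_zero_of_odd hodd
  set A := M 1 0 with hA
  set B := M 1 1 - M 0 0 with hB
  set C := M 0 1 with hC
  by_cases hA0 : A = 0
  · have hB0 : B ≠ 0 := by
      intro h
      apply hD
      rw [h, hA0]; ring
    refine ⟨(1 + C) / B, 1, ?_⟩
    simp only [Qf, ← hA, ← hB, ← hC, hA0]
    field_simp
    ring
  · set D := B ^ 2 + 4 * C * A with hDdef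
    have hf : degree (X ^ 2 : F[X]) = 2 := degree_X_pow 2
    have hg : degree (Polynomial.C (-D) * X ^ 2 + Polynomial.C 0 * X + Polynomial.C (-(4 * A)) : F[X]) = 2 :=
      degree_quadratic (neg_ne_zero.mpr hD)
    obtain ⟨a, b, hab⟩ := FiniteField.exists_root_sum_quadratic hf hg hodd
    simp at hab
    refine ⟨(a - B * b) / (2 * A), b, ?_⟩
    simp only [Qf, ← hA, ← hB, ← hC]
    field_simp
    rw [hDdef] at hab
    linear_combination hab

theorem isSquare_mul_of_not_isSquare [Fintype F] (hodd : Fintype.card F % 2 = 1) {a e : F}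
    (ha : ¬ IsSquare a) (he : ¬ IsSquare e) : IsSquare (a * e) := by
  have hF := ringChar_ne_two_of_odd hodd
  have ha0 : a ≠ 0 := by rintro rfl; exact ha (IsSquare.zero)
  have he0 : e ≠ 0 := by rintro rfl; exact he (IsSquare.zero)
  rw [FiniteField.isSquare_iff hF ha0] at ha
  rw [FiniteField.isSquare_iff hF he0] at he
  rw [FiniteField.isSquare_iff hF (mul_ne_zero ha0 he0), mul_pow]
  rw [(FiniteField.pow_dichotomy hF ha0).resolve_left ha,
    (FiniteField.pow_dichotomy hF he0).resolve_left he]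
  simp

end Cfsg.Agent.Lib.Helper14.SL2
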