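import Mathlib

set_option autoImplicit false

namespace Cfsg.Agent.Lib.Helper14

open scoped commutatorElement

/-- if `⁅a,b⁆` is central then `⁅a^n,b⁆ = ⁅a,b⁆^n`. -/
theorem comm_pow_left {G : Type*} [Group G] (a b : G) (h : ⁅a, b⁆ ∈ Subgroup.center G) (n : ℕ) :
    ⁅a ^ n, b⁆ = ⁅a, b⁆ ^ n := by
  induction n with
  | zero => simp [commutatorElement_def]
  | succ n ih =>
    have hc : ∀ g : G, g * ⁅a, b⁆ = ⁅a, b⁆ * g := fun g => Subgroup.mem_center_iff.mp h g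
    have h1 : ⁅a ^ (n + 1), b⁆ = a ^ n * ⁅a, b⁆ * (b * (a ^ n)⁻¹ * b⁻¹) := by
      simp only [commutatorElement_def, pow_succ]; group
    rw [h1, hc, pow_succ', ← ih, commutatorElement_def (a ^ n) b]
    group

/-- if `⁅a,b⁆` is central then `⁅a,b^n⁆ = ⁅a,b⁆^n`. -/
theorem comm_pow_right {G : Type*} [Group G] (a b : G) (h : ⁅a, b⁆ ∈ Subgroup.center G) (n : ℕ) :
    ⁅a, b ^ n⁆ = ⁅a, b⁆ ^ n := by
  have h' : ⁅b, a⁆ ∈ Subgroup.center G := by
    rw [← commutatorElement_inv]; exact Subgroup.inv_mem _ h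
  rw [← commutatorElement_inv, comm_pow_left b a h', ← commutatorElement_inv a b, inv_pow, inv_inv]

/-- the class two power formula. -/
theorem mul_pow_class2 {G : Type*} [Group G] (x y : G) (h : ⁅y, x⁆ ∈ Subgroup.center G) (n : ℕ) :
    (x * y) ^ n = x ^ n * y ^ n * ⁅y, x⁆ ^ (n.choose 2) := by
  induction n with
  | zero => simp
  | succ n ih =>
    have hc : ∀ (k : ℕ) (g : G), g * ⁅y, x⁆ ^ k = ⁅y, x⁆ ^ k * g :=
      fun k g => Subgroup.mem_center_iff.mp (Subgroup.pow_mem _ h k) g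
    have h1 : y ^ n * x = ⁅y, x⁆ ^ n * (x * y ^ n) := by
      rw [← comm_pow_left y x h n, commutatorElement_def]; group
    have h2 : (n + 1).choose 2 = n.choose 2 + n := by
      rw [Nat.choose_succ_succ' n 1, Nat.choose_one_right, add_comm]
    calc (x * y) ^ (n + 1) = x ^ n * y ^ n * ⁅y, x⁆ ^ (n.choose 2) * (x * y) := by rw [pow_succ, ih]
      _ = ⁅y, x⁆ ^ (n.choose 2) * (x ^ n * (y ^ n * x) * y) := by
        rw [hc (n.choose 2) (x ^ n * y ^ n)]; group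
      _ = ⁅y, x⁆ ^ (n.choose 2) * (x ^ n * (⁅y, x⁆ ^ n * (x * y ^ n)) * y) := by rw [h1]
      _ = ⁅y, x⁆ ^ (n.choose 2) * (⁅y, x⁆ ^ n * (x ^ n * (x * y ^ n) * y)) := by
        rw [← mul_assoc (x ^ n) (⁅y, x⁆ ^ n), hc n (x ^ n)]; simp only [mul_assoc]
      _ = x ^ (n + 1) * y ^ (n + 1) * ⁅y, x⁆ ^ ((n + 1).choose 2) := by
        rw [h2, hc _ (x ^ (n + 1) * y ^ (n + 1)), pow_add ⁅y, x⁆, pow_succ x, pow_succ y]
        simp only [mul_assoc]

/-- In class two, `p` odd, `(xy)^p = x^p y^p` provided `⁅y,x⁆^p = 1`. -/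
theorem mul_pow_prime_class2 {G : Type*} [Group G] {p : ℕ} (hp : p.Prime) (hp2 : p ≠ 2) (x y : G)
    (h : ⁅y, x⁆ ∈ Subgroup.center G) (hc : ⁅y, x⁆ ^ p = 1) :
    (x * y) ^ p = x ^ p * y ^ p := by
  rw [mul_pow_class2 x y h]
  have : p ∣ p.choose 2 := hp.dvd_choose_self (by norm_num) (lt_of_le_of_ne hp.two_le (Ne.symm hp2))
  obtain ⟨k, hk⟩ := this
  rw [hk, pow_mul, hc, one_pow, mul_one]

/-- `⁅G', G⁆ = 1` makes all commutators central. -/
theorem comm_mem_center_of_class2 {G : Type*} [Group G]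
    (h2 : ⁅commutator G, (⊤ : Subgroup G)⁆ = ⊥) (a b : G) : ⁅a, b⁆ ∈ Subgroup.center G := by
  rw [Subgroup.commutator_eq_bot_iff_le_centralizer] at h2
  have := h2 (Subgroup.commutator_mem_commutator (Subgroup.mem_top a) (Subgroup.mem_top b))
  rwa [Subgroup.coe_top, Subgroup.centralizer_univ] at this

end Cfsg.Agent.Lib.Helper14
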