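import Mathlib

set_option autoImplicit false

namespace Cfsg.Agent.Lib.Helper14

open DihedralGroup

/-- The embedding of a dihedral group determined by an element `c` of order `m` and an involution
`x ∉ ⟨c⟩` inverting `c`. -/
theorem exists_dihedral_hom {G : Type*} [Group G] (m : ℕ) [NeZero m] (c x : G)
    (hc : orderOf c = m) (hx : x ∉ Subgroup.zpowers c) (hx2 : x * x = 1)
    (hinv : x * c * x⁻¹ = c⁻¹) : ∃ f : DihedralGroup m →* G, Function.Injective f ∧
      (∀ i : ZMod m, f (r i) = c ^ i.val) ∧ (∀ i : ZMod m, f (sr i) = x * c ^ i.val) := by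
  let g : ZMod m → G := fun i => c ^ i.val
  have hgadd : ∀ i j, g (i + j) = g i * g j := by
    intro i j
    show c ^ (i + j).val = c ^ i.val * c ^ j.val
    rw [ZMod.val_add, ← pow_add]
    have := pow_mod_orderOf c (i.val + j.val)
    rwa [hc] at this
  have hg0 : g 0 = 1 := by
    show c ^ (0 : ZMod m).val = 1
    rw [ZMod.val_zero, pow_zero]
  have hgneg : ∀ i, g (-i) = (g i)⁻¹ := by
    intro i
    rw [eq_inv_iff_mul_eq_one, ← hgadd, neg_add_cancel, hg0]
  have hgsub : ∀ i j, g (j - i) = (g i)⁻¹ * g j := by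
    intro i j
    rw [sub_eq_neg_add, hgadd, hgneg]
  have hconj : ∀ i, x * g i = (g i)⁻¹ * x := by
    intro i
    have h1 : x * c ^ i.val * x⁻¹ = (c ^ i.val)⁻¹ := by
      rw [← conj_pow, hinv, inv_pow]
    calc x * g i = (x * c ^ i.val * x⁻¹) * x := by
          show x * c ^ i.val = _
          rw [inv_mul_cancel_right]
      _ = (g i)⁻¹ * x := by rw [h1]
  have hconj' : ∀ i, g i * x = x * (g i)⁻¹ := by
    intro i
    have := hconj (-i)
    rw [hgneg, inv_inv] at this
    exact this.symm
  let f₀ : DihedralGroup m → G := fun d => match d with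
    | r i => g i
    | sr i => x * g i
  let f : DihedralGroup m →* G := MonoidHom.mk' f₀ (by
    intro a b
    cases a with
    | r i =>
      cases b with
      | r j => exact hgadd i j
      | sr j =>
        show x * g (j - i) = g i * (x * g j)
        rw [hgsub, ← mul_assoc, ← mul_assoc, hconj']
    | sr i =>
      cases b with
      | r j =>
        show x * g (i + j) = x * g i * g j
        rw [hgadd, mul_assoc]
      | sr j =>
        show g (j - i) = x * g i * (x * g j)
        rw [hgsub, hconj, mul_assoc, ← mul_assoc x x, hx2, one_mul])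
  refine ⟨f, ?_, fun i => rfl, fun i => rfl⟩
  rw [injective_iff_map_eq_one]
  intro a ha
  cases a with
  | r i =>
    have h1 : c ^ i.val = 1 := ha
    have h2 : m ∣ i.val := by
      have := orderOf_dvd_of_pow_eq_one h1
      rwa [hc] at this
    have h3 : i.val = 0 := Nat.eq_zero_of_dvd_of_lt h2 (ZMod.val_lt i)
    rw [(ZMod.val_eq_zero i).mp h3]; rfl
  | sr i =>
    exfalso
    apply hx
    have h1 : x * c ^ i.val = 1 := ha
    have h2 : x = (c ^ i.val)⁻¹ := eq_inv_of_mul_eq_one_left h1
    rw [h2]
    exact Subgroup.inv_mem _ (Subgroup.pow_mem _ (Subgroup.mem_zpowers c) _)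

end Cfsg.Agent.Lib.Helper14
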