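import Mathlib

set_option autoImplicit false

namespace Cfsg.Agent.Lib.Helper14

/-- Every abelian subgroup of a finite group lies in a self-centralizing abelian subgroup. -/
theorem exists_maximal_abelian {G : Type*} [Group G] [Finite G] (B : Subgroup G)
    (hB : IsMulCommutative B) :
    ∃ A : Subgroup G, B ≤ A ∧ IsMulCommutative A ∧ Subgroup.centralizer (A : Set G) = A := by
  obtain ⟨A, hBA, hAmax⟩ := (Set.toFinite {H : Subgroup G | IsMulCommutative H}).exists_le_maximal
    (a := B) hB
  have hA : IsMulCommutative A := hAmax.prop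
  have hAc : ∀ a ∈ A, ∀ b ∈ A, a * b = b * a := fun a ha b hb =>
    congrArg Subtype.val (hA.is_comm.comm ⟨a, ha⟩ ⟨b, hb⟩)
  refine ⟨A, hBA, hA, le_antisymm ?_ ?_⟩
  · intro x hx
    have hcomm : IsMulCommutative (Subgroup.closure ((A : Set G) ∪ {x})) := by
      apply Subgroup.isMulCommutative_closure
      rintro a (ha | ha) b (hb | hb)
      · exact hAc a ha b hb
      · rw [Set.mem_singleton_iff.mp hb]; exact hx a ha
      · rw [Set.mem_singleton_iff.mp ha]; exact (hx b hb).symm
      · rw [Set.mem_singleton_iff.mp ha, Set.mem_singleton_iff.mp hb]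
    have hle : A ≤ Subgroup.closure ((A : Set G) ∪ {x}) := fun a ha =>
      Subgroup.subset_closure (Or.inl ha)
    exact hAmax.le_of_ge hcomm hle (Subgroup.subset_closure (Or.inr rfl))
  · intro a ha b hb
    exact hAc b hb a ha

end Cfsg.Agent.Lib.Helper14
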