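import Mathlib
import Cfsg.Prelude.Def_Solvable

set_option autoImplicit false

namespace Cfsg.Agent.Lib.Helper14

theorem q8_central_sq : ∀ x : QuaternionGroup 2, (∀ y, x * y = y * x) → x ^ 2 = 1 := by
  decide

theorem q8_centralizer {G : Type*} [Group G] [Finite G] (S : Sylow 2 G)
    (e : (S : Subgroup G) ≃* QuaternionGroup 2) (a : G) (ha : a ∈ S) (ha4 : orderOf a = 4) :
    (∃ k : ℕ, (Cfsg.pPrimeCore 2 (Subgroup.centralizer ({a} : Set G))).index = 2 ^ k) ∧
      (Nat.card (Subgroup.centralizer ({a} : Set G))).factorization 2 = 2 := by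
  have : Fact (Nat.Prime 2) := ⟨Nat.prime_two⟩
  have hS8 : Nat.card (S : Subgroup G) = 8 := by
    rw [Nat.card_congr e.toEquiv, Nat.card_eq_fintype_card, QuaternionGroup.card]
  obtain ⟨C, hC⟩ : ∃ C, C = Subgroup.centralizer ({a} : Set G) := ⟨_, rfl⟩
  rw [← hC]
  have haC : a ∈ C := by
    rw [hC, Subgroup.mem_centralizer_singleton_iff]
  have hcomm : ∀ c ∈ C, c * a = a * c := by
    intro c hc
    rw [hC, Subgroup.mem_centralizer_singleton_iff] at hc
    exact hc
  -- a Sylow 2-subgroup of `C` containing `a`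
  have hza : IsPGroup 2 (Subgroup.zpowers (⟨a, haC⟩ : C)) :=
    IsPGroup.of_card (n := 2) (by rw [Nat.card_zpowers, Subgroup.orderOf_mk, ha4]; norm_num)
  obtain ⟨T, hT⟩ := hza.exists_le_sylow
  have haT : (⟨a, haC⟩ : C) ∈ T := hT (Subgroup.mem_zpowers _)
  -- its image in `G` lies in a Sylow 2-subgroup of `G`
  have hTm : IsPGroup 2 ((T : Subgroup C).map C.subtype) := T.2.map _
  obtain ⟨S', hS'⟩ := hTm.exists_le_sylow
  have hS'8 : Nat.card (S' : Subgroup G) = 8 := by
    rw [S'.card_eq_multiplicity, ← S.card_eq_multiplicity, hS8]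
  have hTcard : Nat.card ((T : Subgroup C).map C.subtype) = Nat.card (T : Subgroup C) :=
    Subgroup.card_map_of_injective C.subtype_injective
  have hT4 : 4 ∣ Nat.card (T : Subgroup C) := by
    have := Subgroup.card_dvd_of_le hT
    rwa [Nat.card_zpowers, Subgroup.orderOf_mk, ha4] at this
  have hT8 : Nat.card (T : Subgroup C) ∣ 8 := by
    rw [← hTcard, ← hS'8]; exact Subgroup.card_dvd_of_le hS'
  have hTne8 : Nat.card (T : Subgroup C) ≠ 8 := by
    intro h8
    have heq : (T : Subgroup C).map C.subtype = S' :=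
      Subgroup.eq_of_le_of_card_ge hS' (by rw [hTcard, h8, hS'8])
    obtain ⟨g, hg⟩ := MulAction.exists_smul_eq G S' S
    -- `b = g a g⁻¹ ∈ S` is central in `S`
    have haS' : a ∈ (S' : Subgroup G) := by
      rw [← heq]; exact ⟨⟨a, haC⟩, haT, rfl⟩
    have hmem : ∀ y, y ∈ (S : Subgroup G) ↔ g⁻¹ * y * g ∈ (S' : Subgroup G) := by
      intro y
      rw [← hg, Sylow.coe_subgroup_smul, Subgroup.mem_pointwise_smul_iff_inv_smul_mem,
        MulAut.smul_def, ← map_inv, MulAut.conj_apply, inv_inv]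
    have hbS : g * a * g⁻¹ ∈ (S : Subgroup G) := by
      rw [hmem]
      have : g⁻¹ * (g * a * g⁻¹) * g = a := by group
      rw [this]; exact haS'
    have hcen : ∀ y : (S : Subgroup G), (⟨g * a * g⁻¹, hbS⟩ : (S : Subgroup G)) * y =
        y * ⟨g * a * g⁻¹, hbS⟩ := by
      rintro ⟨y, hy⟩
      apply Subtype.ext
      change g * a * g⁻¹ * y = y * (g * a * g⁻¹)
      have h1 := (hmem y).mp hy
      rw [← heq] at h1
      obtain ⟨c, -, hc⟩ := h1
      have h2 := hcomm c c.2
      rw [show (c : G) = g⁻¹ * y * g from hc] at h2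
      calc g * a * g⁻¹ * y = g * (a * (g⁻¹ * y * g)) * g⁻¹ := by group
        _ = g * ((g⁻¹ * y * g) * a) * g⁻¹ := by rw [h2]
        _ = y * (g * a * g⁻¹) := by group
    have h3 : (e ⟨g * a * g⁻¹, hbS⟩) ^ 2 = 1 := by
      apply q8_central_sq
      intro y
      obtain ⟨y, rfl⟩ := e.surjective y
      rw [← map_mul, ← map_mul, hcen]
    rw [← map_pow, map_eq_one_iff e e.injective] at h3
    have h4 : (g * a * g⁻¹) ^ 2 = 1 := congrArg Subtype.val h3
    rw [conj_pow] at h4
    have h5 : a ^ 2 = 1 := by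
      have : a ^ 2 = g⁻¹ * (g * a ^ 2 * g⁻¹) * g := by group
      rw [this, h4]; group
    have := orderOf_dvd_of_pow_eq_one h5
    rw [ha4] at this
    norm_num at this
  have hTc : Nat.card (T : Subgroup C) = 4 := by
    have hle : Nat.card (T : Subgroup C) ≤ 8 := Nat.le_of_dvd (by norm_num) hT8
    obtain ⟨m, hm⟩ := hT4
    have : m = 1 ∨ m = 2 ∨ m = 0 := by omega
    rcases this with rfl | rfl | rfl
    · omega
    · omega
    · have := Nat.card_pos (α := (T : Subgroup C)); omega
  have hTz : (T : Subgroup C) = Subgroup.zpowers (⟨a, haC⟩ : C) :=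
    (Subgroup.eq_of_le_of_card_ge hT (by
      rw [hTc, Nat.card_zpowers, Subgroup.orderOf_mk, ha4])).symm
  have hcent : Subgroup.normalizer (T : Set C) ≤ Subgroup.centralizer (T : Set C) := by
    intro c _
    have h1 : Subgroup.zpowers (⟨a, haC⟩ : C) ≤ Subgroup.centralizer ({c} : Set C) := by
      rw [Subgroup.zpowers_le, Subgroup.mem_centralizer_singleton_iff]
      exact Subtype.ext (hcomm c c.2).symm
    rw [Subgroup.mem_centralizer_iff]
    intro t ht
    have ht' : t ∈ (T : Subgroup C) := ht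
    rw [hTz] at ht'
    have h2 := h1 ht'
    rw [Subgroup.mem_centralizer_singleton_iff] at h2
    exact h2
  have hK := MonoidHom.ker_transferSylow_isComplement' T hcent
  have hKodd := MonoidHom.not_dvd_card_ker_transferSylow T hcent
  constructor
  · have hle : (MonoidHom.transferSylow T hcent).ker ≤ Cfsg.pPrimeCore 2 C :=
      le_sSup ⟨inferInstance, ((Nat.Prime.coprime_iff_not_dvd Nat.prime_two).mpr hKodd).symm⟩
    have h1 : (Cfsg.pPrimeCore 2 C).index ∣ 2 ^ 2 := by
      have := Subgroup.index_dvd_of_le hle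
      rwa [hK.symm.index_eq_card, hTc] at this
    obtain ⟨k, -, hk⟩ := (Nat.dvd_prime_pow Nat.prime_two).mp h1
    exact ⟨k, hk⟩
  · have h1 := T.card_eq_multiplicity
    rw [hTc] at h1
    exact (Nat.pow_right_injective (le_refl 2) (by simpa using h1)).symm

end Cfsg.Agent.Lib.Helper14
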