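import Mathlib
import Cfsg.Agent.Lib.Helper9.QD3
import Cfsg.Agent.Lib.Helper14.MaxClassSub

set_option autoImplicit false

namespace Cfsg.Agent.Lib.Helper14

open Cfsg.Agent.Lib.Helper9 in
/-- quasi-dihedral groups have the self-centralizing property -/
theorem selfCent_quasiDihedral {S : Type*} [Group S] [Finite S] (hS : Cfsg.IsQuasiDihedral S) :
    SelfCent S := by
  obtain ⟨m, hcard, ⟨c⟩⟩ := exists_qdc hS
  have hne : NeZero (2 ^ m) := ⟨by positivity⟩
  have hcomm : commutator S = c.Phi := c.commutator_eq.1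
  have hcardPhi : Nat.card (commutator S) = 4 * 2 ^ m := by
    rw [hcomm]
    show Nat.card (Subgroup.zpowers (c.a 2)) = _
    rw [Nat.card_zpowers, c.orderOf_a_two]
  have hna : ¬ IsMulCommutative S := by
    intro h
    have h1 : commutator S = ⊥ := by
      rw [commutator_eq_bot_iff_center_eq_top]
      rw [eq_top_iff]
      intro x _
      rw [Subgroup.mem_center_iff]
      intro y
      exact h.is_comm.comm y x
    rw [h1, Subgroup.card_bot] at hcardPhi
    have : 0 < 2 ^ m := by positivity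
    omega
  rw [SelfCent, Cfsg.Agent.S3919.result hna (m + 4) hcard,
    Cfsg.Agent.S3919.class_iff (m + 4) (by omega) hcard,
    Cfsg.Agent.S0115.result (m + 4) (by omega) hcard]
  have hc4 : Nat.card (S ⧸ commutator S) = 4 := by
    have h1 := (commutator S).card_mul_index
    rw [hcardPhi, hcard] at h1
    have h2 : (commutator S).index = 4 := by
      have h3 : 4 * 2 ^ m * (commutator S).index = 4 * 2 ^ m * 4 := by rw [h1]; ring
      exact Nat.eq_of_mul_eq_mul_left (by positivity) h3
    exact h2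
  refine ⟨hc4, ?_⟩
  have hsq : ∀ x : S ⧸ commutator S, x ^ 2 = 1 := by
    intro x
    obtain ⟨s, rfl⟩ := QuotientGroup.mk_surjective x
    rw [← QuotientGroup.mk_pow, QuotientGroup.eq_one_iff, hcomm, c.mem_Phi]
    rcases c.cases s with ⟨i, rfl⟩ | ⟨i, rfl⟩
    · exact ⟨i, by rw [c.a_pow]; push_cast; rfl⟩
    · refine ⟨2 * ((2 ^ m : ℕ) : ZMod (8 * 2 ^ m)) * i, ?_⟩
      rw [pow_two, c.bb_self]
      congr 1
      ring
  have h1 : Monoid.exponent (S ⧸ commutator S) ∣ 2 := Monoid.exponent_dvd_of_forall_pow_eq_one hsq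
  rcases (Nat.dvd_prime Nat.prime_two).mp h1 with h | h
  · exfalso
    have := Monoid.exp_eq_one_iff.mp h
    have h2 : Nat.card (S ⧸ commutator S) = 1 := Nat.card_eq_one_iff_unique.mpr ⟨this, ⟨1⟩⟩
    omega
  · exact h

end Cfsg.Agent.Lib.Helper14
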