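import Mathlib

set_option autoImplicit false

namespace Cfsg.Agent.Lib.Helper14.SL23

open QuaternionGroup

abbrev Q8 := QuaternionGroup 2

/-- the map of `Q8` determined by the images `p` of `a 1` and `q` of `xa 0` -/
def fn (p q : Q8) : Q8 → Q8
  | a k => p ^ k.val
  | xa k => q * p ^ k.val

def Valid (p q : Q8) : Prop := p ^ 2 ≠ 1 ∧ q ^ 2 ≠ 1 ∧ q ≠ p ∧ q ≠ p⁻¹

instance (p q : Q8) : Decidable (Valid p q) := by unfold Valid; infer_instance

set_option maxRecDepth 100000 in
theorem fn_mul : ∀ p q : Q8, Valid p q → ∀ x y, fn p q (x * y) = fn p q x * fn p q y := by decide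

set_option maxRecDepth 100000 in
theorem fn_inj : ∀ p q : Q8, Valid p q → ∀ x y, fn p q x = fn p q y → x = y := by decide

theorem fn_id : ∀ x, fn (a 1) (xa 0) x = x := by decide

theorem a_eq : ∀ k : ZMod (2 * 2), (a k : Q8) = (a 1) ^ k.val := by decide

theorem xa_eq : ∀ k : ZMod (2 * 2), (xa k : Q8) = xa 0 * (a 1) ^ k.val := by decide

set_option maxRecDepth 100000 in
theorem keyK : ∀ p q : Q8, Valid p q → ¬ (p = a 1 ∧ q = xa 0) →
    fn p q (fn p q (fn p q (a 1))) = a 1 → fn p q (fn p q (fn p q (xa 0))) = xa 0 →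
    ∃ p' q', Valid p' q' ∧ ∀ x, fn p q (fn p' q' x) = fn p' q' (fn (xa 0) (xa 3) x) := by decide


theorem valid_beta : Valid (xa 0) (xa 3) := by decide

theorem beta_cube_fn : ∀ x, fn (xa 0) (xa 3) (fn (xa 0) (xa 3) (fn (xa 0) (xa 3) x)) = x := by
  decide

theorem q8_pow_four : ∀ x : Q8, x ^ 4 = 1 := by decide

/-- the endomorphism attached to a valid pair -/
def fnHom (p q : Q8) (h : Valid p q) : Q8 →* Q8 := MonoidHom.mk' (fn p q) (fn_mul p q h)

theorem fnHom_injective (p q : Q8) (h : Valid p q) : Function.Injective (fnHom p q h) :=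
  fun x y hxy => fn_inj p q h x y hxy

theorem fnHom_surjective (p q : Q8) (h : Valid p q) : Function.Surjective (fnHom p q h) :=
  Finite.injective_iff_surjective.mp (fnHom_injective p q h)

/-- the standard automorphism of order 3 -/
noncomputable def beta : MulAut Q8 :=
  MulEquiv.ofBijective (fnHom (xa 0) (xa 3) valid_beta)
    ⟨fnHom_injective _ _ _, fnHom_surjective _ _ _⟩

theorem beta_apply (x : Q8) : beta x = fn (xa 0) (xa 3) x := rfl

theorem beta_cube : beta ^ 3 = 1 := by
  ext x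
  have : (beta ^ 3) x = beta (beta (beta x)) := rfl
  rw [this, beta_apply, beta_apply, beta_apply, beta_cube_fn]
  rfl

abbrev C3 := Multiplicative (ZMod 3)

def g0 : C3 := Multiplicative.ofAdd 1

theorem g0_gen : ∀ x : C3, ∃ k : Fin 3, g0 ^ (k : ℕ) = x := by decide

theorem g0_mem (x : C3) : x ∈ Subgroup.zpowers g0 := by
  obtain ⟨k, rfl⟩ := g0_gen x
  exact Subgroup.pow_mem _ (Subgroup.mem_zpowers g0) _

theorem orderOf_g0 : orderOf g0 = 3 := by
  have : Fact (Nat.Prime 3) := ⟨Nat.prime_three⟩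
  exact orderOf_eq_prime (by decide) (by decide)

/-- the action of `C3` on `Q8` -/
noncomputable def phi : C3 →* MulAut Q8 :=
  monoidHomOfForallMemZpowers g0_mem (g' := beta)
    (by rw [orderOf_g0]; exact orderOf_dvd_of_pow_eq_one beta_cube)

theorem phi_g0 : phi g0 = beta := monoidHomOfForallMemZpowers_apply_gen _ _

/-- the model group `Q8 ⋊ C3` -/
abbrev M := Q8 ⋊[phi] C3

theorem rec_model {X : Type*} [Group X] (f : Q8 →* X) (hf : Function.Injective f) (c : X)
    (hc : c ^ 3 = 1) (hnorm : ∀ q, ∃ q', f q' = c * f q * c⁻¹)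
    (hnc : ∃ q, c * f q * c⁻¹ ≠ f q) (hgen : f.range ⊔ Subgroup.zpowers c = ⊤) :
    Nonempty (M ≃* X) := by
  choose α hα using hnorm
  have αmul : ∀ x y, α (x * y) = α x * α y := by
    intro x y
    apply hf
    rw [hα, map_mul, map_mul, hα, hα]
    group
  let αH : Q8 →* Q8 := MonoidHom.mk' α αmul
  have αfn : ∀ x, α x = fn (α (a 1)) (α (xa 0)) x := by
    intro x
    cases x with
    | a k =>
      calc α (a k) = αH ((a 1) ^ k.val) := by rw [← a_eq k]; rfl
        _ = (αH (a 1)) ^ k.val := map_pow _ _ _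
        _ = _ := rfl
    | xa k =>
      calc α (xa k) = αH (xa 0 * (a 1) ^ k.val) := by rw [← xa_eq k]; rfl
        _ = αH (xa 0) * (αH (a 1)) ^ k.val := by rw [map_mul, map_pow]
        _ = _ := rfl
  have αinj : ∀ x y, α x = α y → x = y := by
    intro x y h
    apply hf
    have h1 := hα x
    rw [h, hα y] at h1
    exact (mul_left_cancel (mul_right_cancel h1)).symm
  have hval : Valid (α (a 1)) (α (xa 0)) := by
    refine ⟨?_, ?_, ?_, ?_⟩
    · intro h
      have h1 : αH ((a 1) ^ 2) = αH 1 := by rw [map_pow, map_one]; exact h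
      exact absurd (αinj _ _ h1) (by decide)
    · intro h
      have h1 : αH ((xa 0) ^ 2) = αH 1 := by rw [map_pow, map_one]; exact h
      exact absurd (αinj _ _ h1) (by decide)
    · intro h
      exact absurd (αinj _ _ h) (by decide)
    · intro h
      have h1 : αH (xa 0) = αH ((a 1)⁻¹) := by rw [map_inv]; exact h
      exact absurd (αinj _ _ h1) (by decide)
  have α3 : ∀ x, α (α (α x)) = x := by
    intro x
    apply hf
    rw [hα, hα, hα]
    have : c * (c * (c * f x * c⁻¹) * c⁻¹) * c⁻¹ = c ^ 3 * f x * (c ^ 3)⁻¹ := by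
      simp only [pow_succ, pow_zero, one_mul, mul_inv_rev, mul_assoc]
    rw [this, hc]
    simp
  have e : fn (α (a 1)) (α (xa 0)) = α := funext (fun x => (αfn x).symm)
  have hne : ¬ (α (a 1) = a 1 ∧ α (xa 0) = xa 0) := by
    rintro ⟨h1, h2⟩
    obtain ⟨q, hq⟩ := hnc
    apply hq
    rw [← hα, αfn q, h1, h2, fn_id]
  obtain ⟨p', q', hv, hk⟩ := keyK _ _ hval hne (by rw [e]; exact α3 _) (by rw [e]; exact α3 _)
  rw [e] at hk
  let f' : Q8 →* X := f.comp (fnHom p' q' hv)
  have hf' : Function.Injective f' := hf.comp (fnHom_injective p' q' hv)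
  have hconj : ∀ x, f' (beta x) = c * f' x * c⁻¹ := by
    intro x
    show f (fn p' q' (fn (xa 0) (xa 3) x)) = c * f (fn p' q' x) * c⁻¹
    rw [← hk, hα]
  have hconjk : ∀ (k : ℕ) (x : Q8), f' ((beta ^ k) x) = c ^ k * f' x * (c ^ k)⁻¹ := by
    intro k
    induction k with
    | zero => intro x; simp
    | succ k ih =>
      intro x
      have : (beta ^ (k + 1)) x = beta ((beta ^ k) x) := by
        rw [pow_succ']; rfl
      rw [this, hconj, ih, pow_succ']
      group
  let fg : C3 →* X := monoidHomOfForallMemZpowers g0_mem (g' := c)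
    (by rw [orderOf_g0]; exact orderOf_dvd_of_pow_eq_one hc)
  have hfg : fg g0 = c := monoidHomOfForallMemZpowers_apply_gen _ _
  have h : ∀ g, f'.comp (phi g).toMonoidHom = (MulAut.conj (fg g)).toMonoidHom.comp f' := by
    intro g
    obtain ⟨k, rfl⟩ := g0_gen g
    ext x
    simp only [MonoidHom.comp_apply, MulEquiv.coe_toMonoidHom, map_pow, phi_g0, hfg]
    rw [hconjk]
    rw [← map_pow, MulAut.conj_apply]
  let Φ : M →* X := SemidirectProduct.lift f' fg h
  have hc1 : c ≠ 1 := by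
    rintro rfl
    obtain ⟨q, hq⟩ := hnc
    exact hq (by simp)
  have hinj : Function.Injective Φ := by
    rw [injective_iff_map_eq_one]
    intro m hm
    have hm' : f' m.1 * fg m.2 = 1 := hm
    obtain ⟨k, hk2⟩ := g0_gen m.2
    rw [← hk2, map_pow, hfg] at hm'
    have h1 : c ^ (k : ℕ) = f' (m.1⁻¹) := by
      rw [map_inv]; exact (inv_eq_of_mul_eq_one_right hm').symm
    have h4 : (c ^ (k : ℕ)) ^ 4 = 1 := by rw [h1, ← map_pow, q8_pow_four, map_one]
    have h3 : (c ^ (k : ℕ)) ^ 3 = 1 := by rw [← pow_mul, mul_comm, pow_mul, hc, one_pow]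
    have h5 : c ^ (k : ℕ) = 1 := by
      have : (c ^ (k : ℕ)) ^ 4 = (c ^ (k : ℕ)) ^ 3 * c ^ (k : ℕ) := pow_succ _ _
      rw [h4, h3, one_mul] at this
      exact this.symm
    have h6 : m.1 = 1 := by
      rw [h5, mul_one] at hm'
      exact hf' (hm'.trans (map_one f').symm)
    have h7 : (k : ℕ) = 0 := by
      have hk3 := k.2
      by_contra hk0
      have : (k : ℕ) = 1 ∨ (k : ℕ) = 2 := by omega
      rcases this with h | h
      · rw [h, pow_one] at h5; exact hc1 h5
      · rw [h] at h5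
        apply hc1
        have : c ^ 3 = c ^ 2 * c := pow_succ _ _
        rw [hc, h5, one_mul] at this
        exact this.symm
    have h8 : m.2 = 1 := by rw [← hk2, h7, pow_zero]
    exact SemidirectProduct.ext h6 h8
  have hsurj : Function.Surjective Φ := by
    rw [← MonoidHom.range_eq_top, eq_top_iff, ← hgen, sup_le_iff]
    constructor
    · rintro _ ⟨x, rfl⟩
      obtain ⟨y, rfl⟩ := fnHom_surjective p' q' hv x
      exact ⟨SemidirectProduct.inl y, SemidirectProduct.lift_inl _ _ _ _⟩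
    · rw [Subgroup.zpowers_le]
      exact ⟨SemidirectProduct.inr g0, (SemidirectProduct.lift_inr _ _ _ _).trans hfg⟩
  exact ⟨MulEquiv.ofBijective Φ ⟨hinj, hsurj⟩⟩


abbrev S := Matrix.SpecialLinearGroup (Fin 2) (ZMod 3)

def sI : S := ⟨!![0, 1; -1, 0], by decide⟩
def sJ : S := ⟨!![1, 1; 1, -1], by decide⟩
def sC : S := ⟨!![1, 1; 0, 1], by decide⟩

def sfn : Q8 → S
  | a k => sI ^ k.val
  | xa k => sJ * sI ^ k.val

set_option maxRecDepth 100000 in
theorem sfn_mul : ∀ x y, sfn (x * y) = sfn x * sfn y := by decide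

set_option maxRecDepth 100000 in
theorem sfn_inj : ∀ x y, sfn x = sfn y → x = y := by decide

set_option maxRecDepth 100000 in
theorem sC3 : sC ^ 3 = 1 := by decide

set_option maxRecDepth 100000 in
theorem snorm : ∀ q, ∃ q', sfn q' = sC * sfn q * sC⁻¹ := by decide

set_option maxRecDepth 100000 in
theorem snc : sC * sfn (a 1) * sC⁻¹ ≠ sfn (a 1) := by decide

set_option maxRecDepth 100000 in
theorem sgen : ∀ x : S, ∃ q : Q8, ∃ k : Fin 3, x = sfn q * sC ^ (k : ℕ) := by decide

/-- the embedding of `Q8` in `SL(2,3)` -/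
def sHom : Q8 →* S := MonoidHom.mk' sfn sfn_mul

theorem sHom_injective : Function.Injective sHom := fun x y h => sfn_inj x y h

theorem model_equiv : Nonempty (M ≃* S) := by
  refine rec_model sHom sHom_injective sC sC3 snorm ⟨a 1, snc⟩ ?_
  rw [eq_top_iff]
  intro x _
  obtain ⟨q, k, rfl⟩ := sgen x
  exact Subgroup.mul_mem _ (Subgroup.mem_sup_left ⟨q, rfl⟩)
    (Subgroup.mem_sup_right (Subgroup.pow_mem _ (Subgroup.mem_zpowers _) _))

/-- **Recognition of `SL(2,3)`**: a group generated by a copy of `Q8` and an element `c` with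
`c ^ 3 = 1` normalizing but not centralizing it. -/
theorem rec_sl23 {X : Type*} [Group X] (f : Q8 →* X) (hf : Function.Injective f) (c : X)
    (hc : c ^ 3 = 1) (hnorm : ∀ q, ∃ q', f q' = c * f q * c⁻¹)
    (hnc : ∃ q, c * f q * c⁻¹ ≠ f q) (hgen : f.range ⊔ Subgroup.zpowers c = ⊤) :
    Nonempty (X ≃* Matrix.SpecialLinearGroup (Fin 2) (ZMod 3)) := by
  obtain ⟨e1⟩ := rec_model f hf c hc hnorm hnc hgen
  obtain ⟨e2⟩ := model_equiv
  exact ⟨e1.symm.trans e2⟩

end Cfsg.Agent.Lib.Helper14.SL23
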