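import Mathlib
import Cfsg.Agent.Lib.Helper14.SL23Rec

set_option autoImplicit false

namespace Cfsg.Agent.Lib.Helper14.SL23

open QuaternionGroup

set_option maxRecDepth 100000 in
theorem order_cases : ∀ p q : Q8, Valid p q → (∀ x, fn p q (fn p q (fn p q x)) = x) ∨
    (∀ x, fn p q (fn p q (fn p q (fn p q x))) = x) := by decide

theorem hom_eq_fn (αH : Q8 →* Q8) (αinj : Function.Injective αH) :
    Valid (αH (a 1)) (αH (xa 0)) ∧ ∀ x, αH x = fn (αH (a 1)) (αH (xa 0)) x := by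
  constructor
  · refine ⟨?_, ?_, ?_, ?_⟩
    · intro h
      have h1 : αH ((a 1) ^ 2) = αH 1 := by rw [map_pow, map_one]; exact h
      exact absurd (αinj h1) (by decide)
    · intro h
      have h1 : αH ((xa 0) ^ 2) = αH 1 := by rw [map_pow, map_one]; exact h
      exact absurd (αinj h1) (by decide)
    · intro h
      exact absurd (αinj h) (by decide)
    · intro h
      have h1 : αH (xa 0) = αH ((a 1)⁻¹) := by rw [map_inv]; exact h
      exact absurd (αinj h1) (by decide)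
  · intro x
    cases x with
    | a k =>
      calc αH (a k) = αH ((a 1) ^ k.val) := by rw [← a_eq k]
        _ = (αH (a 1)) ^ k.val := map_pow _ _ _
        _ = _ := rfl
    | xa k =>
      calc αH (xa k) = αH (xa 0 * (a 1) ^ k.val) := by rw [← xa_eq k]
        _ = αH (xa 0) * (αH (a 1)) ^ k.val := by rw [map_mul, map_pow]
        _ = _ := rfl

theorem conj_mem_of_normalizer {G : Type*} [Group G] {Q : Subgroup G} {g : G}
    (hgN : g ∈ Subgroup.normalizer (Q : Set G)) {x : G} (hx : x ∈ Q) : g * x * g⁻¹ ∈ Q :=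
  (Subgroup.mem_normalizer_iff.mp hgN x).mp hx

theorem cube_mem_centralizer {G : Type*} [Group G] (Q : Subgroup G) (ψ : Q ≃* Q8) (g : G)
    (hgN : g ∈ Subgroup.normalizer (Q : Set G)) (hodd : Odd (orderOf g)) :
    g ^ 3 ∈ Subgroup.centralizer (Q : Set G) := by
  let α : Q8 → Q8 := fun q => ψ ⟨g * (ψ.symm q : G) * g⁻¹, conj_mem_of_normalizer hgN (ψ.symm q).2⟩
  have hα : ∀ q, ((ψ.symm (α q) : Q) : G) = g * (ψ.symm q : G) * g⁻¹ := by
    intro q
    show ((ψ.symm (ψ _) : Q) : G) = _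
    rw [ψ.symm_apply_apply]
  have hinj0 : Function.Injective (fun q : Q8 => ((ψ.symm q : Q) : G)) :=
    Subtype.val_injective.comp ψ.symm.injective
  have αmul : ∀ x y, α (x * y) = α x * α y := by
    intro x y
    apply hinj0
    show ((ψ.symm (α (x * y)) : Q) : G) = ((ψ.symm (α x * α y) : Q) : G)
    rw [hα, map_mul, map_mul, Subgroup.coe_mul, Subgroup.coe_mul, hα, hα]
    group
  let αH : Q8 →* Q8 := MonoidHom.mk' α αmul
  have αinj : Function.Injective αH := by
    intro x y h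
    apply hinj0
    have h1 := hα x
    have h' : α x = α y := h
    rw [h', hα y] at h1
    exact (mul_left_cancel (mul_right_cancel h1)).symm
  obtain ⟨hval, hfn⟩ := hom_eq_fn αH αinj
  have e : fn (αH (a 1)) (αH (xa 0)) = α := funext (fun x => (hfn x).symm)
  have hcases := order_cases _ _ hval
  rw [e] at hcases
  rcases hcases with h3 | h4
  · rw [Subgroup.mem_centralizer_iff]
    intro x hx
    have h1 := h3 (ψ ⟨x, hx⟩)
    have h2 : ((ψ.symm (α (α (α (ψ ⟨x, hx⟩)))) : Q) : G) = x := by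
      rw [h1, ψ.symm_apply_apply]
    rw [hα, hα, hα, ψ.symm_apply_apply] at h2
    have h5 : g * (g * (g * x * g⁻¹) * g⁻¹) * g⁻¹ = g ^ 3 * x * (g ^ 3)⁻¹ := by
      simp only [pow_succ, pow_zero, one_mul, mul_inv_rev, mul_assoc]
    rw [h5] at h2
    exact (eq_mul_of_mul_inv_eq h2).symm
  · have hg4 : g ^ 4 ∈ Subgroup.centralizer (Q : Set G) := by
      rw [Subgroup.mem_centralizer_iff]
      intro x hx
      have h1 := h4 (ψ ⟨x, hx⟩)
      have h2 : ((ψ.symm (α (α (α (α (ψ ⟨x, hx⟩))))) : Q) : G) = x := by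
        rw [h1, ψ.symm_apply_apply]
      rw [hα, hα, hα, hα, ψ.symm_apply_apply] at h2
      have h5 : g * (g * (g * (g * x * g⁻¹) * g⁻¹) * g⁻¹) * g⁻¹ = g ^ 4 * x * (g ^ 4)⁻¹ := by
        simp only [pow_succ, pow_zero, one_mul, mul_inv_rev, mul_assoc]
      rw [h5] at h2
      exact (eq_mul_of_mul_inv_eq h2).symm
    have hcop : Nat.Coprime (orderOf g) 4 := by
      have : Nat.Coprime (orderOf g) 2 := Nat.coprime_two_right.mpr hodd
      exact Nat.Coprime.pow_right 2 this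
    obtain ⟨m, hm⟩ := exists_pow_eq_self_of_coprime hcop.symm
    have hg : g ∈ Subgroup.centralizer (Q : Set G) := by
      rw [← hm]; exact Subgroup.pow_mem _ hg4 _
    exact Subgroup.pow_mem _ hg _

theorem section_sl23 {G : Type*} [Group G] (Q : Subgroup G) (ψ : Q ≃* Q8) (g : G)
    (hgN : g ∈ Subgroup.normalizer (Q : Set G)) (hodd : Odd (orderOf g))
    (hgC : g ∉ Subgroup.centralizer (Q : Set G)) :
    ∃ (H K : Subgroup G) (_ : (K.subgroupOf H).Normal),
      Nonempty ((H ⧸ K.subgroupOf H) ≃* Matrix.SpecialLinearGroup (Fin 2) (ZMod 3)) := by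
  have hg3 := cube_mem_centralizer Q ψ g hgN hodd
  let H : Subgroup G := Q ⊔ Subgroup.zpowers g
  let K : Subgroup G := Subgroup.zpowers (g ^ 3)
  have hQH : Q ≤ H := le_sup_left
  have hgH : g ∈ H := (le_sup_right : Subgroup.zpowers g ≤ H) (Subgroup.mem_zpowers g)
  -- `K` is central in `H`
  have hcent : H ≤ Subgroup.centralizer (K : Set G) := by
    refine sup_le ?_ ?_
    · intro x hx
      rw [Subgroup.mem_centralizer_iff]
      rintro _ ⟨k, rfl⟩
      have h1 : Commute (g ^ 3) x := (Subgroup.mem_centralizer_iff.mp hg3 x hx).symm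
      exact (h1.zpow_left k)
    · rw [Subgroup.zpowers_le, Subgroup.mem_centralizer_iff]
      rintro _ ⟨k, rfl⟩
      have h1 : Commute (g ^ 3) g := (Commute.refl g).pow_left 3
      exact (h1.zpow_left k)
  have hK : (K.subgroupOf H).Normal := by
    constructor
    intro n hn h
    rw [Subgroup.mem_subgroupOf] at hn ⊢
    have h1 := Subgroup.mem_centralizer_iff.mp (hcent h.2) _ hn
    have h2 : ((h * n * h⁻¹ : H) : G) = (n : G) := by
      push_cast
      rw [← h1]; group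
    rw [h2]; exact hn
  refine ⟨H, K, hK, ?_⟩
  -- `Q ∩ K = 1`
  have hQK : ∀ x ∈ Q, x ∈ K → x = 1 := by
    intro x hxQ hxK
    have h4 : x ^ 4 = 1 := by
      have h1 := q8_pow_four (ψ ⟨x, hxQ⟩)
      rw [← map_pow, ← map_one ψ] at h1
      exact congrArg Subtype.val (ψ.injective h1)
    have hxg : x ∈ Subgroup.zpowers g := by
      obtain ⟨k, rfl⟩ := hxK
      exact Subgroup.zpow_mem _ (Subgroup.pow_mem _ (Subgroup.mem_zpowers g) _) _
    have h5 : x ^ orderOf g = 1 := by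
      obtain ⟨k, rfl⟩ := hxg
      rw [← zpow_natCast, ← zpow_mul, mul_comm, zpow_mul, zpow_natCast, pow_orderOf_eq_one, one_zpow]
    have h6 : orderOf x ∣ Nat.gcd 4 (orderOf g) :=
      Nat.dvd_gcd (orderOf_dvd_of_pow_eq_one h4) (orderOf_dvd_of_pow_eq_one h5)
    have hcop : Nat.Coprime 4 (orderOf g) := by
      have : Nat.Coprime 2 (orderOf g) := Nat.coprime_two_left.mpr hodd
      exact Nat.Coprime.pow_left 2 this
    rw [hcop] at h6
    exact orderOf_eq_one_iff.mp (Nat.dvd_one.mp h6)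
  let π := QuotientGroup.mk' (K.subgroupOf H)
  let f : Q8 →* (H ⧸ K.subgroupOf H) := π.comp ((Subgroup.inclusion hQH).comp ψ.symm.toMonoidHom)
  have hfdef : ∀ q, f q = π ⟨(ψ.symm q : G), hQH (ψ.symm q).2⟩ := fun q => rfl
  have hπeq : ∀ x y : H, π x = π y → (x : G)⁻¹ * (y : G) ∈ K := by
    intro x y h
    have := QuotientGroup.eq.mp h
    rwa [Subgroup.mem_subgroupOf] at this
  let c : H ⧸ K.subgroupOf H := π ⟨g, hgH⟩
  apply rec_sl23 f ?_ c ?_ ?_ ?_ ?_
  · intro x y hxy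
    rw [hfdef, hfdef] at hxy
    have h1 := hπeq _ _ hxy
    have h2 := hQK _ (Q.mul_mem (Q.inv_mem (ψ.symm x).2) (ψ.symm y).2) h1
    have h3 : ((ψ.symm x : Q) : G) = (ψ.symm y : Q) := inv_mul_eq_one.mp h2
    exact ψ.symm.injective (Subtype.ext h3)
  · show π ⟨g, hgH⟩ ^ 3 = 1
    rw [← map_pow]
    apply (QuotientGroup.eq_one_iff _).mpr
    rw [Subgroup.mem_subgroupOf]
    exact Subgroup.mem_zpowers (g ^ 3)
  · intro q
    refine ⟨ψ ⟨g * (ψ.symm q : G) * g⁻¹, conj_mem_of_normalizer hgN (ψ.symm q).2⟩, ?_⟩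
    rw [hfdef, hfdef]
    show _ = π ⟨g, hgH⟩ * _ * (π ⟨g, hgH⟩)⁻¹
    rw [← map_inv, ← map_mul, ← map_mul]
    congr 1
    apply Subtype.ext
    simp
  · by_contra hcon
    push Not at hcon
    apply hgC
    rw [Subgroup.mem_centralizer_iff]
    intro x hx
    have h1 := hcon (ψ ⟨x, hx⟩)
    rw [hfdef] at h1
    have h2 : π ⟨g, hgH⟩ * π ⟨((ψ.symm (ψ ⟨x, hx⟩) : Q) : G), hQH (ψ.symm (ψ ⟨x, hx⟩)).2⟩ *
        (π ⟨g, hgH⟩)⁻¹ = π ⟨((ψ.symm (ψ ⟨x, hx⟩) : Q) : G), hQH (ψ.symm (ψ ⟨x, hx⟩)).2⟩ := h1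
    rw [← map_inv, ← map_mul, ← map_mul] at h2
    have h3 := hπeq _ _ h2
    simp only [ψ.symm_apply_apply, Subgroup.coe_mul, Subgroup.coe_inv] at h3
    have h4 := hQK _ (Q.mul_mem (Q.inv_mem (conj_mem_of_normalizer hgN hx)) hx) h3
    have h5 : g * x * g⁻¹ = x := inv_mul_eq_one.mp h4
    exact (eq_mul_of_mul_inv_eq h5).symm
  · let R : Subgroup G := ((f.range ⊔ Subgroup.zpowers c).comap π).map H.subtype
    have hHR : H ≤ R := by
      refine sup_le ?_ ?_
      · intro x hx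
        refine ⟨⟨x, hQH hx⟩, ?_, rfl⟩
        show π ⟨x, hQH hx⟩ ∈ f.range ⊔ Subgroup.zpowers c
        apply Subgroup.mem_sup_left
        refine ⟨ψ ⟨x, hx⟩, ?_⟩
        rw [hfdef]
        congr 1
        apply Subtype.ext
        simp
      · rw [Subgroup.zpowers_le]
        exact ⟨⟨g, hgH⟩, Subgroup.mem_sup_right (Subgroup.mem_zpowers c), rfl⟩
    rw [eq_top_iff]
    intro y _
    obtain ⟨⟨x, hx⟩, rfl⟩ := QuotientGroup.mk'_surjective (K.subgroupOf H) y
    obtain ⟨x', hx', hxx⟩ := hHR hx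
    have : x' = ⟨x, hx⟩ := Subtype.ext hxx
    rw [this] at hx'
    exact hx'

end Cfsg.Agent.Lib.Helper14.SL23
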