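import Mathlib
import Cfsg.Agent.Lib.Helper14.SL23Sec

set_option autoImplicit false

namespace Cfsg.Agent.Lib.Helper14.SL23

open QuaternionGroup

set_option maxRecDepth 100000 in
theorem card_valid : Fintype.card {pq : Q8 × Q8 // Valid pq.1 pq.2} = 24 := by decide

theorem card_mulAut_le : Nat.card (MulAut Q8) ≤ 24 := by
  let F : MulAut Q8 → {pq : Q8 × Q8 // Valid pq.1 pq.2} := fun α =>
    ⟨(α (a 1), α (xa 0)), (hom_eq_fn α.toMonoidHom α.injective).1⟩
  have hF : Function.Injective F := by
    intro α β h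
    have h1 : α (a 1) = β (a 1) := congrArg (fun x => x.1.1) h
    have h2 : α (xa 0) = β (xa 0) := congrArg (fun x => x.1.2) h
    ext x
    have e1 := (hom_eq_fn α.toMonoidHom α.injective).2 x
    have e2 := (hom_eq_fn β.toMonoidHom β.injective).2 x
    simp only [MulEquiv.coe_toMonoidHom] at e1 e2
    rw [e1, e2, h1, h2]
  have := Nat.card_le_card_of_injective F hF
  rwa [Nat.card_eq_fintype_card (α := {pq : Q8 × Q8 // Valid pq.1 pq.2}), card_valid] at this

theorem q8_center : ∀ x : Q8, (∀ y, x * y = y * x) → x = 1 ∨ x = a 2 := by decide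

set_option maxRecDepth 100000 in
theorem card_S : Fintype.card S = 24 := by decide

theorem normal_sl23 {G : Type*} [Group G] [Finite G] (R : Subgroup G) [hR : R.Normal]
    (ψ : R ≃* Q8) (hC : Subgroup.centralizer (R : Set G) ≤ R) (g : G) (hg3 : g ^ 3 = 1)
    (hgC : g ∉ Subgroup.centralizer (R : Set G)) :
    (R ⊔ Subgroup.zpowers g).Normal ∧
      Nonempty (↥(R ⊔ Subgroup.zpowers g) ≃* Matrix.SpecialLinearGroup (Fin 2) (ZMod 3)) := by
  classical
  obtain ⟨U, hU⟩ : ∃ U, U = R ⊔ Subgroup.zpowers g := ⟨_, rfl⟩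
  rw [← hU]
  have hRU : R ≤ U := hU ▸ le_sup_left
  have hgU : g ∈ U := hU ▸ (le_sup_right : Subgroup.zpowers g ≤ _) (Subgroup.mem_zpowers g)
  let f : Q8 →* U := (Subgroup.inclusion hRU).comp ψ.symm.toMonoidHom
  have hfval : ∀ q, ((f q : U) : G) = (ψ.symm q : G) := fun q => rfl
  let c : U := ⟨g, hgU⟩
  have hiso : Nonempty (U ≃* Matrix.SpecialLinearGroup (Fin 2) (ZMod 3)) := by
    apply rec_sl23 f ?_ c ?_ ?_ ?_ ?_
    · exact (Subgroup.inclusion_injective hRU).comp ψ.symm.injective
    · exact Subtype.ext hg3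
    · intro q
      refine ⟨ψ ⟨g * (ψ.symm q : G) * g⁻¹, hR.conj_mem _ (ψ.symm q).2 g⟩, ?_⟩
      apply Subtype.ext
      rw [hfval, ψ.symm_apply_apply]
      rfl
    · by_contra hcon
      push Not at hcon
      apply hgC
      rw [Subgroup.mem_centralizer_iff]
      intro x hx
      have h1 := congrArg Subtype.val (hcon (ψ ⟨x, hx⟩))
      have h2 : g * ((f (ψ ⟨x, hx⟩) : U) : G) * g⁻¹ = ((f (ψ ⟨x, hx⟩) : U) : G) := h1
      rw [hfval, ψ.symm_apply_apply] at h2
      exact (eq_mul_of_mul_inv_eq h2).symm
    · let R' : Subgroup G := (f.range ⊔ Subgroup.zpowers c).map U.subtype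
      have hUR : U ≤ R' := by
        rw [hU]
        refine sup_le ?_ ?_
        · intro x hx
          refine ⟨⟨x, hRU hx⟩, Subgroup.mem_sup_left ⟨ψ ⟨x, hx⟩, ?_⟩, rfl⟩
          apply Subtype.ext
          rw [hfval, ψ.symm_apply_apply]
        · rw [Subgroup.zpowers_le]
          exact ⟨c, Subgroup.mem_sup_right (Subgroup.mem_zpowers c), rfl⟩
      rw [eq_top_iff]
      rintro ⟨x, hx⟩ _
      obtain ⟨x', hx', hxx⟩ := hUR hx
      have : x' = ⟨x, hx⟩ := Subtype.ext hxx
      rw [this] at hx'
      exact hx'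
  refine ⟨?_, hiso⟩
  obtain ⟨e⟩ := hiso
  have hcardU : Nat.card U = 24 := by
    rw [Nat.card_congr e.toEquiv, Nat.card_eq_fintype_card]; exact card_S
  -- the order of `G` is at most 48
  let φ : G →* MulAut R := MulAut.conjNormal
  have hker : ∀ x, x ∈ φ.ker → x ∈ Subgroup.centralizer (R : Set G) := by
    intro x hx
    rw [Subgroup.mem_centralizer_iff]
    intro y hy
    have h1 : φ x ⟨y, hy⟩ = ⟨y, hy⟩ := by
      rw [MonoidHom.mem_ker.mp hx]; rfl
    have h2 : x * y * x⁻¹ = y := by
      have := congrArg Subtype.val h1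
      rwa [MulAut.conjNormal_apply] at this
    exact (eq_mul_of_mul_inv_eq h2).symm
  have hkercard : Nat.card φ.ker ≤ 2 := by
    let F : φ.ker → Bool := fun x => decide (x = 1)
    have hval : ∀ x : φ.ker, x ≠ 1 →
        ψ ⟨x.1, hC (hker x.1 x.2)⟩ = a 2 := by
      intro x hx
      have hxc := hker x.1 x.2
      rcases q8_center (ψ ⟨x.1, hC hxc⟩) (by
        intro y
        obtain ⟨y', rfl⟩ := ψ.surjective y
        rw [← map_mul, ← map_mul]
        congr 1
        apply Subtype.ext
        exact (Subgroup.mem_centralizer_iff.mp hxc y'.1 y'.2).symm) with h | h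
      · exfalso
        apply hx
        rw [← map_one ψ] at h
        have := congrArg Subtype.val (ψ.injective h)
        exact Subtype.ext this
      · exact h
    have hF : Function.Injective F := by
      intro x y hxy
      by_cases hx : x = 1
      · have : F y = true := by rw [← hxy]; simp [F, hx]
        have hy : y = 1 := by simpa [F] using this
        rw [hx, hy]
      · have : F y = false := by rw [← hxy]; simp [F, hx]
        have hy : y ≠ 1 := by simpa [F] using this
        have h1 := ψ.injective ((hval x hx).trans (hval y hy).symm)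
        have h2 : (x : G) = y := congrArg (fun r : R => (r : G)) h1
        exact Subtype.ext h2
    have := Nat.card_le_card_of_injective F hF
    simpa using this
  have hrange : Nat.card φ.range ≤ 24 := by
    have h1 : Nat.card φ.range ≤ Nat.card (MulAut R) :=
      Nat.card_le_card_of_injective _ Subtype.val_injective
    have h2 : Nat.card (MulAut R) = Nat.card (MulAut Q8) :=
      Nat.card_congr (MulAut.congr ψ).toEquiv
    have h3 := card_mulAut_le
    omega
  have hcardG : Nat.card G ≤ 48 := by
    have h1 := φ.ker.card_mul_index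
    rw [Subgroup.index_ker] at h1
    calc Nat.card G = Nat.card φ.ker * Nat.card φ.range := h1.symm
      _ ≤ 2 * 24 := Nat.mul_le_mul hkercard hrange
  have hidx := U.card_mul_index
  rw [hcardU] at hidx
  have hi0 : U.index ≠ 0 := Subgroup.index_ne_zero_of_finite
  have hi : U.index = 1 ∨ U.index = 2 := by omega
  rcases hi with h | h
  · rw [Subgroup.index_eq_one.mp h]; infer_instance
  · exact Subgroup.normal_of_index_eq_two h

end Cfsg.Agent.Lib.Helper14.SL23
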